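import Groth.Agent.CurveOmega.Canonical
import Groth.Agent.CurveOmega.CliffordCurve
import Groth.Agent.BpfCover.Basic
import Groth.Agent.S11336
import Groth.Agent.S11337

/-!
A special curve of degree six spanning projective three-space is canonical.
-/

set_option autoImplicit false
set_option backward.isDefEq.respectTransparency false
set_option backward.isDefEq.respectTransparency.types false
set_option linter.style.haveILetI false

universe u

open CategoryTheory CategoryTheory.Limits AlgebraicGeometry TopologicalSpace Opposite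
open Groth.Agent Groth.Agent.CurveRR Groth.Agent.CurveOmega

noncomputable section

namespace Groth.Agent.SpecialSix

variable {k : Type u} [Field k] [IsAlgClosed k] {X : Scheme.{u}} [X.Over (Spec (CommRingCat.of k))] [IsIntegral X]
  [IsProper (X ↘ Spec (CommRingCat.of k))] [Smooth (X ↘ Spec (CommRingCat.of k))]

/-- A pencil of degree two is `O(P + Q)` for two closed points. -/
theorem exists_two_points (hdim : topologicalKrullDim X = 1) {M : X.Modules} (hM : PicF.IsInvertible M)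
    (hdM : Curv2.deg k X M 1 = 2) (h2 : 2 ≤ h k M 0) :
    ∃ (P Q : X) (hP : IsClosed ({P} : Set X)) (hQ : IsClosed ({Q} : Set X)),
      Nonempty (CohB1.tensorMod M (CohB1.tensorMod (ClSub.idealMod (Scheme.IdealSheafData.vanishingIdeal ⟨{P}, hP⟩))
        (ClSub.idealMod (Scheme.IdealSheafData.vanishingIdeal ⟨{Q}, hQ⟩))) ≅ Coh.structureModule X) := by
  haveI := isNoetherian_of_proper k X
  have hIinv : ∀ {R : X} (hR : IsClosed ({R} : Set X)),
      PicF.IsInvertible (ClSub.idealMod (Scheme.IdealSheafData.vanishingIdeal ⟨{R}, hR⟩)) := fun {R} hR =>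
    isInvertible_pointIdeal hdim.le hR (genericPoint_ne_of_closed (k := k) hdim hR)
      (SmLocalST.isRegularLocalRing_stalk_of_smooth_field (X ↘ Spec (CommRingCat.of k)) _)
  obtain ⟨s, hs⟩ := exists_section (k := k) (L := M) (by omega)
  obtain ⟨P, hP, u, hu⟩ := exists_vanish (k := k) hdim hM s hs (by omega)
  have hPM := TMul.isInvertible_tensorMod (hIinv hP) hM
  have hd1 : Curv2.deg k X (CohB1.tensorMod (ClSub.idealMod (Scheme.IdealSheafData.vanishingIdeal ⟨{P}, hP⟩)) M) 1 = 1 := by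
    rw [Curv2.deg, euler_pointIdeal (k := k) hP hM]
    rw [Curv2.deg] at hdM
    linarith
  obtain ⟨Q, hQ, w, hw⟩ := exists_vanish (k := k) hdim hPM u hu (by omega)
  obtain ⟨-, hiso⟩ := deg_le_and_isIso (k := k) hdim.le TMul.isInvertible_structureModule
    (TMul.isInvertible_tensorMod (hIinv hQ) hPM) w hw
  haveI := hiso (by
    rw [deg_structure, Curv2.deg, euler_pointIdeal (k := k) hQ hPM]
    rw [Curv2.deg] at hd1
    linarith)
  exact ⟨P, Q, hP, hQ, ⟨TMul.commIso M _ ≪≫ PicGrp.tensorModIso (TMul.commIso _ _) (Iso.refl M) ≪≫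
    TMul.assocIso _ _ M ≪≫ (asIso w).symm⟩⟩

/-- A triple of a pencil of degree two with `h⁰ = 4` is not very ample. -/
theorem not_sep_cube (hdim : topologicalKrullDim X = 1) {L N : X.Modules} (hN : PicF.IsInvertible N)
    (hdN : Curv2.deg k X N 1 = 2) (h2 : 2 ≤ h k N 0) (i : L ≅ CohB1.tensorPow N 3) (h4 : h k L 0 = 4) :
    ¬ Sep k X L := fun hsep => by
  haveI := isNoetherian_of_proper k X
  have hC : Curve.IsSmoothProperCurve k X (X ↘ Spec (CommRingCat.of k)) :=
    ⟨inferInstance, inferInstance, inferInstance, hdim⟩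
  obtain ⟨P, Q, hP, hQ, ⟨θ⟩⟩ := exists_two_points hdim hN hdN h2
  have h := hsep P Q hP hQ
  have j : CohB1.tensorMod L (CohB1.tensorMod (ClSub.idealMod (Scheme.IdealSheafData.vanishingIdeal ⟨{P}, hP⟩))
      (ClSub.idealMod (Scheme.IdealSheafData.vanishingIdeal ⟨{Q}, hQ⟩))) ≅ CohB1.tensorPow N 2 :=
    PicGrp.tensorModIso i (Iso.refl _) ≪≫ TMul.assocIso (CohB1.tensorPow N 2) N _ ≪≫
      PicGrp.tensorModIso (Iso.refl _) θ ≪≫ SecTwist.unitorR _
  rw [h_eq_of_iso j 0, h4] at h
  have h3 := h0_pow (k := k) hC hN h2 2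
  omega

/-- The theorem. -/
theorem iso_omega (k : Type u) [Field k] [IsAlgClosed k] (X : Scheme.{u}) [X.Over (Spec (CommRingCat.of k))]
    [IsIntegral X] [IsProper (X ↘ (Spec (CommRingCat.of k)))] (hdim : topologicalKrullDim X = 1)
    (hreg : ∀ x : X, IsRegularLocalRing (X.presheaf.stalk x)) (i : X ⟶ CohB1.ProjSpace 3 k) [IsClosedImmersion i]
    (hi : i ≫ CohB1.ProjSpace.toSpec 3 k = (X ↘ (Spec (CommRingCat.of k))))
    (hplane : ∀ s : LinSer.Sect (CohB1.ProjSpace 3 k) (Twist.twistProjSpace 3 k 1),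
      s ≠ 0 → OmegaSh.pullSect i (Twist.twistProjSpace 3 k 1) ⊤ s ≠ 0)
    (hspecial : Nontrivial (Coh.HH X ((Scheme.Modules.pullback i).obj (Twist.twistProjSpace 3 k 1)) 1))
    (hdeg : Curv2.deg k X ((Scheme.Modules.pullback i).obj (Twist.twistProjSpace 3 k 1)) 1 = 6) :
    Nonempty (((Scheme.Modules.pullback i).obj (Twist.twistProjSpace 3 k 1)) ≅ Omega.sheaf (X ↘ (Spec (CommRingCat.of k)))) ∧
      Curv2.genus k X = 4 := by
  haveI := isNoetherian_of_proper k X
  have hC := smoothProper k X hdim hreg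
  haveI := hC.2.1
  obtain ⟨hΩ, -, hdΩ, -⟩ := omega_facts k X hC
  let L := (Scheme.Modules.pullback i).obj (Twist.twistProjSpace 3 k 1)
  have hL : PicF.IsInvertible L := PicLoc.isInvertible_pullback i (CohFinite.isInvertible_twist 3 k 1)
  have hn : 4 ≤ h k L 0 := BpfCover.le_h0_of_nondeg i hi hplane
  haveI := CohFinite.finite_proper k X L (isCoh_of_inv hL) 0
  haveI := CohFinite.finite_proper k X L (isCoh_of_inv hL) 1
  obtain ⟨M, hM, ⟨e⟩⟩ := W7Hull.exists_tensor_inverse hL
  haveI := CohFinite.finite_proper k X _ (isCoh_of_inv (TMul.isInvertible_tensorMod hΩ hM)) 0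
  have h1 : 0 < h k L 1 := Module.finrank_pos (R := k) (M := Coh.HH X L 1)
  have hsp : Nontrivial (Coh.HH X (CohB1.tensorMod (Omega.sheaf (X ↘ (Spec (CommRingCat.of k)))) M) 0) :=
    Module.nontrivial_of_finrank_pos (R := k) (show 0 < h k _ 0 from h1_eq k X hC hL e ▸ h1)
  have hs : Nontrivial (Coh.HH X L 0) := Module.nontrivial_of_finrank_pos (R := k) (show 0 < h k L 0 by omega)
  have hle := Groth.Agent.S11336.result k X hdim hreg L M hL ⟨e⟩ hs hsp
  have h4 : h k L 0 = 4 := by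
    change 2 * (h k L 0 : ℤ) ≤ Curv2.deg k X L 1 + 2 at hle
    rw [hdeg] at hle
    show h k L 0 = 4
    omega
  have hiso : Nonempty (L ≅ Omega.sheaf (X ↘ (Spec (CommRingCat.of k)))) := by
    by_contra hK
    obtain ⟨N, s, ⟨hN, hdN, hs2⟩, ⟨j⟩⟩ := Groth.Agent.S11337.result k X hdim hreg L M hL ⟨e⟩ hs hsp
      ⟨fun j => by
        have : Curv2.deg k X L 1 = 0 := by
          rw [Curv2.deg, euler_eq_of_iso j]
          simp
        exact absurd (this.symm.trans hdeg) (by norm_num)⟩ ⟨fun j => hK ⟨j⟩⟩ (show 2 * (h k L 0 : ℤ) = Curv2.deg k X L 1 + 2 by rw [h4, hdeg]; norm_num)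
    have h2 : 2 ≤ h k N 0 := two_le_h0_of_linIndep k (isCoh_of_inv hN) s hs2
    have hj : L ≅ CohB1.tensorPow N 3 := j ≪≫ eqToIso (congrArg (CohB1.tensorPow N)
      (show h k L 0 - 1 = 3 by omega))
    exact not_sep_cube hdim hN (by exact_mod_cast hdN) h2 hj h4
      ((veryAmple_iff_sep hdim hL).1 ⟨3, i, inferInstance, hi, ⟨Iso.refl _⟩⟩)
  refine ⟨hiso, ?_⟩
  obtain ⟨j⟩ := hiso
  have h6 : Curv2.deg k X (Omega.sheaf (X ↘ (Spec (CommRingCat.of k)))) 1 = 6 := by
    rw [← hdeg, Curv2.deg, Curv2.deg, euler_eq_of_iso j]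
  omega

end Groth.Agent.SpecialSix
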